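import Cfsg.Agent.TO.X5T.Alt
import Cfsg.Agent.TO.X5.Defs
import Cfsg.Agent.TO.Blk
import Cfsg.Agent.H273.RC.AbelBound
import Cfsg.Agent.S0886
import Cfsg.Agent.S2227

/-!
# S4817, `²E₆(2)` at `p = 5` (helper89)
-/

set_option autoImplicit false

namespace Cfsg.Agent.TO.X5T

open Cfsg Subgroup
open Cfsg.Agent.BHZ.Nil
open scoped commutatorElement

variable {G : Type} [Group G] [Finite G] {M : Ideal AlgInt} {b : Set (IrrCharacter G)} {D : Subgroup G} {θ : G → ℂ}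

/-- `K` for an abelian centralizer and an element which is canonical up to conjugation -/
theorem kill (B : Blk) (H : Two 5 M b D) (h : Can 5 M b D θ) (hc : Nat.card D = 5 ^ 2)
    (hab : ∀ a ∈ Ce D, ∀ a' ∈ Ce D, a * a' = a' * a) {u : G} (hu : u ∈ D) (hu1 : u ≠ 1) {x : G} (hx : x ∈ In D θ)
    (hxu : x ∈ Cu u) (hxc : x ∉ Ce D) (hα : ∀ α ∈ LA D θ, α u = u → ∃ d ∈ Ce D, α x = d * x * d⁻¹) : False := by
  have : Fact (Nat.Prime 5) := ⟨by norm_num⟩
  let R : Subgroup G := closure (insert x (Ce D))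
  have h1 : x ∈ R := subset_closure (Set.mem_insert _ _)
  have h2 : Ce D ≤ R := fun c hc => subset_closure (Set.mem_insert_of_mem _ hc)
  have h3 : R ≤ In D θ ⊓ Cu u := (closure_le _).2 (Set.insert_subset ⟨hx, hxu⟩ fun c hc =>
    ⟨h.Ce_le_In hc, Q8.ce_le_cu hu hc⟩)
  have hN : ((Ce D).subgroupOf R).Normal := ⟨fun c hc r => conj_mem_Ce (In_le_norm (h3 r.2).1) hc⟩
  have h4 : IsCyclic (R ⧸ (Ce D).subgroupOf R) := by
    refine ⟨⟨QuotientGroup.mk ⟨x, h1⟩, fun q => ?_⟩⟩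
    obtain ⟨⟨y, hy⟩, rfl⟩ := QuotientGroup.mk_surjective q
    change _ ∈ zpowers _
    induction hy using closure_induction with
    | mem y hy =>
      rcases hy with rfl | hy
      · exact mem_zpowers _
      · exact ((QuotientGroup.eq_one_iff (N := (Ce D).subgroupOf R) ⟨y, h2 hy⟩).2 hy).symm ▸ one_mem _
    | one => exact one_mem _
    | mul y y' _ _ a a' => exact mul_mem a a'
    | inv y _ a => exact inv_mem a
  obtain ⟨χ, h5, h6⟩ := S0886.result ((Ce D).subgroupOf R) h4 (fun n => θ n.1.1)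
    (Characters.Core.isIrr_comp (subgroupOfEquivOfLe h2).toMonoidHom (MulEquiv.surjective _) h.irr)
    fun g n => (h3 g.2).1.2 n.1.1
  have := Fintype.ofFinite (Ce D)
  have h7 : χ 1 = 1 := (h6 1).trans (H273.RC.irr_abel (fun a a' => Subtype.ext (hab a a.2 a' a'.2)) h.irr).1
  obtain ⟨f, rfl⟩ := Characters.Linear.exists_hom_of_isIrrCharacter h5 h7
  classical
  refine B.k G 5 M b D θ (fun g => if hg : g ∈ R then (f ⟨g, hg⟩ : ℂ) else 0) H h (Or.inr rfl) hc u hu hu1 R h3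
    (fun e => hxc (e h1)) ⟨h2, by simpa only [SetLike.coe_mem, dif_pos] using h5, fun c hc => ?_⟩ fun α hA e y hy hy' => ?_
  · rw [dif_pos (h2 hc)]
    exact h6 ⟨⟨c, h2 hc⟩, hc⟩
  have key : ∀ y (hy : y ∈ R), ∃ hy' : α y ∈ R, f ⟨α y, hy'⟩ = f ⟨y, hy⟩ := fun y hy => by
    induction hy using closure_induction with
    | mem y hy =>
      rcases hy with rfl | hy
      · obtain ⟨d, hd, e⟩ := hα α hA e
        refine ⟨e ▸ mul_mem (mul_mem (h2 hd) h1) (inv_mem (h2 hd)), ?_⟩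
        rw [show (⟨α y, _⟩ : R) = ⟨d, h2 hd⟩ * ⟨y, h1⟩ * ⟨d, h2 hd⟩⁻¹ from Subtype.ext e, map_mul, map_mul, map_inv,
          mul_inv_cancel_comm]
      · have h8 := (LA_Ce hA.1 y).2 hy
        exact ⟨h2 h8, Units.ext ((h6 ⟨⟨_, h2 h8⟩, h8⟩).trans ((hA.2 y).trans (h6 ⟨⟨_, h2 hy⟩, hy⟩).symm))⟩
    | one => exact ⟨(map_one α).symm ▸ one_mem _, congrArg f (Subtype.ext (map_one α))⟩
    | mul y y' hy hy' a a' =>
      obtain ⟨a, e⟩ := a
      obtain ⟨a', e'⟩ := a'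
      refine ⟨(map_mul α y y').symm ▸ mul_mem a a', ?_⟩
      rw [show (⟨α (y * y'), _⟩ : R) = ⟨_, a⟩ * ⟨_, a'⟩ from Subtype.ext (map_mul α y y'), map_mul, e, e', ← map_mul]
      rfl
    | inv y hy a =>
      obtain ⟨a, e⟩ := a
      refine ⟨(map_inv α y).symm ▸ inv_mem a, ?_⟩
      rw [show (⟨α y⁻¹, _⟩ : R) = ⟨_, a⟩⁻¹ from Subtype.ext (map_inv α y), map_inv, e, ← map_inv]
      rfl
  rw [dif_pos hy, dif_pos hy', (key y hy).2]

theorem z5_pow : ∀ r : Multiplicative (ZMod 5), r ^ 5 = 1 := by decide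

theorem z5_gen : ∀ r s : Multiplicative (ZMod 5), r ≠ 1 → ∃ i < 5, s = r ^ i := by decide

/-- the groups in which the elements of order five have the centralizer `5 × A₈` -/
theorem row_of (B : Blk) {X : Type} [Group X]
    (hX : ∀ x : X, orderOf x = 5 → Nonempty (Cu x ≃* Multiplicative (ZMod 5) × alternatingGroup (Fin 8))) : Row 5 X := by
  intro G _ _ σ M b D H
  have : Fact (Nat.Prime 5) := ⟨by norm_num⟩
  have hp : IsPGroup 5 D := Blocks.Basic.isPGroup_of_isDefectGroup H.hD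
  have hn : Nontrivial D := not_subsingleton_iff_nontrivial.1 fun _ => H.nc isCyclic_of_subsingleton
  obtain ⟨u, hu5, hu1, huc⟩ : ∃ u : D, u ^ 5 = 1 ∧ u ≠ 1 ∧ u ∈ center D := by
    have := hp.center_nontrivial
    obtain ⟨n, hn, e⟩ := (hp.to_subgroup (center D)).nontrivial_iff_card.1 this
    obtain ⟨u, hu⟩ := exists_prime_orderOf_dvd_card' (G := center D) 5 (e ▸ dvd_pow_self 5 hn.ne')
    refine ⟨u, ?_, fun e => ?_, u.2⟩
    · rw [← hu, ← Subgroup.coe_pow, pow_orderOf_eq_one, Subgroup.coe_one]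
    · rw [show u = 1 from Subtype.ext e, orderOf_one] at hu
      omega
  obtain ⟨u, hu⟩ := u
  replace hu5 : u ^ 5 ^ 1 = 1 := congrArg Subtype.val hu5
  replace hu1 : u ≠ 1 := fun e => hu1 (Subtype.ext e)
  have hD : D ≤ Cu u := fun d hd => Q8.mem_cu.2 (congrArg Subtype.val (mem_center_iff.1 huc ⟨d, hd⟩))
  have h1 : σ u ≠ 1 := fun e => hu1 (H.cpp.eq_one e hu5)
  obtain ⟨e⟩ := hX (σ u) (orderOf_eq_prime (by rw [← map_pow, ← pow_one 5, hu5, map_one]) h1)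
  let τ : Cu u →* Cu (σ u) := (σ.comp (Cu u).subtype).codRestrict _ fun g => Q8.mem_cu.2 (by
    rw [MonoidHom.comp_apply, ← map_mul, ← map_mul]
    exact congrArg σ (Q8.mem_cu.1 g.2))
  have h2 : Function.Surjective τ := fun y => by
    obtain ⟨g, hg⟩ := H.surj y
    exact ⟨⟨g, Q8.mem_cu.2 (H.cpp.comm_of_pelt hu5 (hg ▸ (Q8.mem_cu.1 y.2).symm)).symm⟩, Subtype.ext hg⟩
  let ρ := e.toMonoidHom.comp τ
  have h3 : Function.Surjective ρ := e.surjective.comp h2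
  have h4 : ∀ g g', ρ g = ρ g' → σ g = σ g' := fun g g' h => congrArg Subtype.val (e.injective h)
  have hc : Nat.card D = 5 ^ 2 := by
    have h5 := card_dvd_of_injective (ρ.comp (inclusion hD)) fun d d' h => H.injD (Subtype.ext (h4 _ _ h))
    obtain ⟨k, hk⟩ := hp.exists_card_eq
    rw [Nat.card_prod, Nat.card_congr Multiplicative.toAdd, Nat.card_zmod, nat_card_alternatingGroup, Nat.card_fin,
      hk] at h5
    have h6 : k ≤ 2 := by
      by_contra h6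
      exact absurd ((pow_dvd_pow 5 (show 3 ≤ k by omega)).trans h5) (by decide)
    have h7 : ¬ k ≤ 1 := fun h7 => H.nc (isCyclic_of_card_dvd_prime (p := 5) (hk ▸ (pow_dvd_pow 5 h7).trans (pow_one 5).dvd))
    rw [hk, show k = 2 by omega]
  have hab : D ≤ Ce D := fun d hd d' hd' =>
    congrArg Subtype.val ((IsPGroup.isMulCommutative_of_card_eq_prime_sq hc).1.1 ⟨d', hd'⟩ ⟨d, hd⟩)
  obtain ⟨θ, h⟩ := B.can0 G 5 M b D H.hM H.hb H.hD hab
  let π := (MonoidHom.snd _ _).comp ρ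
  have h6 : π ⟨u, hD hu⟩ = 1 := by
    refine (alternatingGroup.center_eq_bot (α := Fin 8) (by simp)).le (mem_center_iff.2 fun y => ?_)
    obtain ⟨g, hg⟩ := h3 (1, y)
    rw [show y = π g from (congrArg Prod.snd hg).symm, ← map_mul, ← map_mul]
    exact congrArg π (Subtype.ext (Q8.mem_cu.1 g.2))
  have h7 : ∀ g : Cu u, π g = 1 → g ^ 5 = 1 → g.1 ∈ zpowers u := fun g hg hg5 => by
    obtain ⟨i, -, hi⟩ := z5_gen (ρ ⟨u, hD hu⟩).1 (ρ g).1 fun e =>
      h1 ((h4 ⟨u, hD hu⟩ 1 (by rw [map_one]; exact Prod.ext e h6)).trans (map_one σ))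
    refine H.cpp.mem_of_pelt (n := 1) (hp.to_le (zpowers_le.2 hu)) (congrArg Subtype.val hg5) ⟨u ^ i, pow_mem (mem_zpowers u) i,
      h4 (⟨u, hD hu⟩ ^ i) g ?_⟩
    rw [map_pow]
    exact Prod.ext hi.symm ((congrArg (· ^ i) h6).trans ((one_pow i).trans hg.symm))
  have h8 : ∀ g : Cu u, π g = 1 → g ∈ center (Cu u) := fun g hg => mem_center_iff.2 fun y => by
    have h9 : σ g * σ y = σ y * σ g := by
      rw [← map_mul, ← map_mul]
      refine h4 (g * y) (y * g) ?_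
      rw [map_mul, map_mul]
      exact Prod.ext (mul_comm _ _) (show π g * π y = π y * π g by rw [hg, one_mul, mul_one])
    have h10 : σ (g ^ 5) = 1 := (h4 (g ^ 5) 1 (by
      rw [map_pow, map_one]
      exact Prod.ext (z5_pow _) ((congrArg (· ^ 5) hg).trans (one_pow 5)))).trans (map_one σ)
    have h11 := H.cpp.conj_pow h9 5
    rw [← H.cpp.comm h10, mul_inv_cancel_right, right_eq_mul] at h11
    exact Subtype.ext (commutatorElement_eq_one_iff_mul_comm.1 (H.cpp.eq_one (CentPP.comm_ker h9) (n := 1) h11)).symm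
  obtain ⟨v, hv, hv1⟩ : ∃ v ∈ D.subgroupOf (Cu u), π v ≠ 1 := by
    by_contra h9
    push Not at h9
    refine H.nc (le_antisymm (zpowers_le.2 hu) (fun d hd => h7 ⟨d, hD hd⟩ (h9 _ hd)
      (Subtype.ext (K.pow_eq_one_of hc H.nc hd))) ▸ inferInstance)
  obtain ⟨g1, x, g2, g3, g4, g5⟩ := core π (Prod.snd_surjective.comp h3) h8 (E := D.subgroupOf (Cu u))
    (fun d hd => (Cn.mem_Ce_sub hD d).2 (hab hd)) (fun d hd => Subtype.ext (K.pow_eq_one_of hc H.nc hd))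
    (fun g hg hg5 => zpowers_le.2 hu (h7 g hg hg5)) hv hv1
  have hC := Q8.ce_le_cu hu
  have g6 : x.1 ∈ normalizer (D : Set G) := mem_normalizer_fintype fun d hd => g2 ⟨d, hD hd⟩ hd
  refine kill B H.toTwo h hc (fun a ha a' ha' => congrArg Subtype.val (g1 ⟨a, hC ha⟩ ((Cn.mem_Ce_sub hD _).2 ha) ⟨a', hC ha'⟩
    ((Cn.mem_Ce_sub hD _).2 ha'))) hu hu1 (x := x) ⟨fun y => (mem_normalizer_iff.1 g6 y).symm, fun g => ?_⟩ x.2
    (fun e => g3 ((Cn.mem_Ce_sub hD _).2 e)) fun α hα e => ?_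
  · by_cases hg : g ∈ Ce D
    · obtain ⟨d, hd, e⟩ := g4 ⟨g, hC hg⟩ ((Cn.mem_Ce_sub hD _).2 hg)
      exact (congrArg θ (congrArg Subtype.val e)).trans (h.mul' hd g)
    · rw [h.zero g hg, h.zero]
      exact fun e => hg (by simpa [mul_assoc] using conj_mem_Ce (inv_mem g6) e)
  · obtain ⟨d, hd, e'⟩ := g5 (Q8.resAut α _ fun y => by simpa only [e] using Q8.map_mem_cu α u y)
      fun y hy => (hα.1 y).2 hy
    exact ⟨d, hab hd, congrArg Subtype.val e'⟩

/-- **[T2]** -/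
theorem boxT2 : X5.BoxT2 := fun _ _ _ hK => row_of blk (S2227.result hK).2

end Cfsg.Agent.TO.X5T
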